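import Groth.Agent.Punct.Pencil
import Groth.Agent.HilbRep.Sheaf
import Mathlib

/-!
# The punctual Hilbert scheme of a finite local algebra is connected
-/

set_option autoImplicit false
set_option maxSynthPendingDepth 3
universe u

open CategoryTheory AlgebraicGeometry
open scoped TensorProduct

noncomputable section

namespace Groth.Agent.Punct

open Groth.Agent.HilbRep

variable {k R : Type u} [Field k] [CommRing R] [Algebra k R] {n : ℕ}

/-- Universality in terms of families. -/
theorem existsUnique_classify {X S : Scheme.{u}} (f : X ⟶ S) (d : ℕ) (H : Over S) (Z : HilbD.Obj f d H)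
    (hH : HilbD.IsUniversal f d H Z) {T : Scheme.{u}} (z : Fam f d T) :
    ∃! m : T ⟶ H.left, (⟨H.hom, Z⟩ : Fam f d H.left).restr m = z := by
  let zH : Fam f d H.left := ⟨H.hom, Z⟩
  obtain ⟨g, Z'⟩ := z
  have key : ∀ (g : T ⟶ S) (Z' : HilbD.Obj f d (Over.mk g)) (m : T ⟶ H.left) (hm : m ≫ H.hom = g),
      zH.restr m = ⟨g, Z'⟩ ↔ HilbD.pull f (Over.homMk m hm : Over.mk g ⟶ H) Z.1 = Z'.1 := by
    intro g Z' m hm
    subst hm
    refine ⟨fun e => ?_, fun e => Fam.ext_ideal e⟩
    injection e with h1 h2
    exact congrArg Subtype.val h2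
  obtain ⟨m, hm, huniq⟩ := hH (Over.mk g) Z'
  refine ⟨m.left, (key g Z' m.left (Over.w m)).2 hm, fun m' hm' => ?_⟩
  have hg : m' ≫ H.hom = g := congrArg Fam.g hm'
  exact congrArg (fun x => CommaMorphism.left x) (huniq (Over.homMk m' hg) ((key g Z' m' hg).1 hm'))

variable [IsAlgClosed k] [IsLocalRing R] [Module.Finite k R]

/-- The punctual Hilbert scheme is connected. -/
theorem preconnectedSpace (n : ℕ) (H : Over (Spec (CommRingCat.of k))) (Z : HilbD.Obj (f₀ k R) n H)
    (hH : HilbD.IsUniversal (f₀ k R) n H Z) : PreconnectedSpace H.left := by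
  classical
  have hcl := fun (T : Scheme.{u}) (z : Fam (f₀ k R) n T) => existsUnique_classify (f₀ k R) n H Z hH z
  choose cls hcls hclu using hcl
  have hspec : ∀ {A : Type u} [CommRing A] [Algebra k A] {K : Type u} [Field K] [Algebra k K] (φ : A →ₐ[k] K)
      (J : Ideal (A ⊗[k] R)) (I : Ideal (K ⊗[k] R)) (hJ : HasBasis n J) (hI : HasBasis n I),
      (∀ x ∈ J, Algebra.TensorProduct.map φ (AlgHom.id k R) x ∈ I) →
      cls _ (fam I hI) = Spec.map (CommRingCat.ofHom φ.toRingHom) ≫ cls _ (fam J hJ) := by
    intro A _ _ K _ _ φ J I hJ hI h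
    refine (hclu _ _ _ ?_).symm
    show Fam.restr _ _ = fam I hI
    rw [← Fam.restr_restr, hcls _ (fam J hJ), fam_specialize φ hJ hI h]
  -- every point comes from an ideal over its residue field
  have hpts : ∀ x : H.left, ∃ (K : Type u) (_ : Field K) (_ : Algebra k K) (I : Ideal (K ⊗[k] R))
      (hI : HasBasis n I) (p : Spec (CommRingCat.of K)), cls _ (fam I hI) p = x := by
    have hfld : ∀ (K : Type u) [Field K] (m : Spec (CommRingCat.of K) ⟶ H.left), ∃ (_ : Algebra k K)
        (I : Ideal (K ⊗[k] R)) (hI : HasBasis n I), cls _ (fam I hI) = m := by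
      intro K _ m
      let alg : Algebra k K := (Spec.preimage (m ≫ H.hom)).hom.toAlgebra
      letI := alg
      have hg : m ≫ H.hom = gA k K := (Spec.map_preimage (m ≫ H.hom)).symm
      obtain ⟨I, hI, e⟩ := exists_ideal_of_fam ((⟨H.hom, Z⟩ : Fam (f₀ k R) n H.left).restr m) hg
      exact ⟨alg, I, hI, (hclu _ _ _ e.symm).symm⟩
    intro x
    obtain ⟨alg, I, hI, e⟩ := hfld (H.left.residueField x) (H.left.fromSpecResidueField x)
    refine ⟨H.left.residueField x, inferInstance, alg, I, hI, IsLocalRing.closedPoint _, ?_⟩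
    rw [e]
    exact Scheme.fromSpecResidueField_apply x _
  have hR := isPointlike_maximalIdeal k R
  have hN : ∀ (K : Type u) [Field K] [Algebra k K] (I : Ideal (K ⊗[k] R)), HasBasis n I →
      n + Module.finrank K ↥(I.restrictScalars K) = Module.finrank k R := by
    intro K _ _ I hI
    obtain ⟨hfin, hn⟩ := hI.finite_finrank
    have h := finrank_quot (K := K) I
    rwa [hn, Module.finrank_baseChange] at h
  have main : ∀ j : ℕ, j + n ≤ Module.finrank k R → ∃ F : Ideal R,
      Module.finrank k ↥(F.restrictScalars k) = j ∧ ∀ x : H.left, ∃ (K : Type u) (_ : Field K) (_ : Algebra k K)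
        (I : Ideal (K ⊗[k] R)) (hI : HasBasis n I) (p : Spec (CommRingCat.of K)),
        F.map (Algebra.TensorProduct.includeRight : R →ₐ[k] K ⊗[k] R) ≤ I ∧
          x ∈ connectedComponent (cls _ (fam I hI) p) := by
    intro j
    induction j with
    | zero =>
      intro _
      refine ⟨⊥, by rw [Submodule.restrictScalars_bot, finrank_bot], fun x => ?_⟩
      obtain ⟨K, i1, i2, I, hI, p, hp⟩ := hpts x
      exact ⟨K, i1, i2, I, hI, p, by simp, hp ▸ mem_connectedComponent⟩
    | succ j ih =>
      intro hj
      obtain ⟨F, hF, hconn⟩ := ih (by omega)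
      have hFtop : F ≠ ⊤ := by
        rintro rfl
        rw [Submodule.restrictScalars_top, finrank_top] at hF
        omega
      obtain ⟨s, hsF, hs⟩ := hR.exists_socle_step hFtop
      obtain ⟨F', hFF', hsF', hF'⟩ := hR.exists_extend F hs
      refine ⟨F', by rw [hF', finrank_sup_singleton _ hsF, hF], fun x => ?_⟩
      obtain ⟨K, i1, i2, I, hI, p, hFI, hx⟩ := hconn x
      let ι : R →ₐ[k] K ⊗[k] R := Algebra.TensorProduct.includeRight
      have hmap : ∀ I' : Ideal (K ⊗[k] R), F.map ι ≤ I' → ι s ∈ I' → F'.map ι ≤ I' := by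
        intro I' h1 h2
        refine Ideal.map_le_iff_le_comap.2 fun y hy => ?_
        obtain ⟨f, hf, z, hz, rfl⟩ := Submodule.mem_sup.1 (hF'.le hy)
        obtain ⟨c, rfl⟩ := Submodule.mem_span_singleton.1 hz
        show ι (f + c • s) ∈ I'
        rw [map_add, map_smul]
        exact add_mem (h1 (Ideal.mem_map_of_mem _ hf)) (Submodule.smul_of_tower_mem I' c h2)
      by_cases hsI : ι s ∈ I
      · exact ⟨K, i1, i2, I, hI, p, hmap I hFI hsI, hx⟩
      have hle : Module.finrank K ↥((F.map ι).restrictScalars K) ≤ j := by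
        let L := (F.restrictScalars k).subtype.baseChange K
        have hr : (F.map ι).restrictScalars K ≤ LinearMap.range L := by
          intro z hz
          suffices h : ∀ y, y * z ∈ LinearMap.range L by simpa using h 1
          induction hz using Submodule.span_induction with
          | zero => intro y; simp
          | add u v _ _ h h' => intro y; rw [mul_add]; exact add_mem (h y) (h' y)
          | smul r u _ h => intro y; rw [smul_eq_mul, ← mul_assoc]; exact h _
          | mem u hu =>
            obtain ⟨f, hf, rfl⟩ := hu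
            intro y
            induction y using TensorProduct.induction_on with
            | zero => simp
            | add y y' h h' => rw [add_mul]; exact add_mem h h'
            | tmul c r => exact ⟨c ⊗ₜ[k] ⟨r * f, F.mul_mem_left r hf⟩, by simp [L, ι]⟩
        refine (Submodule.finrank_mono hr).trans ((LinearMap.finrank_range_le L).trans ?_)
        rw [Module.finrank_baseChange, hF]
      have hne : F.map ι ≠ I := by
        intro h
        have := hN K I hI
        rw [← h] at this
        omega
      have hsK : ∀ y ∈ (IsLocalRing.maximalIdeal R).map ι, y * ι s ∈ F.map ι := by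
        intro y hy
        induction hy using Submodule.span_induction with
        | zero => simp
        | add u v _ _ h h' => rw [add_mul]; exact add_mem h h'
        | smul r u _ h => rw [smul_eq_mul, mul_assoc]; exact Ideal.mul_mem_left _ _ h
        | mem u hu =>
          obtain ⟨y, hy, rfl⟩ := hu
          rw [← map_mul]
          exact Ideal.mem_map_of_mem _ (hs y hy)
      obtain ⟨H', hFH, hsH, hdim, ⟨P⟩⟩ := (hR.baseChange K).exists_pencil hFI hne hsK hsI
      have hfin : Module.Finite K ((K ⊗[k] R) ⧸ H') :=
        Module.Finite.of_surjective (Ideal.Quotient.mkₐ K H').toLinearMap Ideal.Quotient.mk_surjective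
      have hH' : HasBasis n H' := by
        refine hasBasis_of_finrank ?_
        have h1 := hN K I hI
        have h2 := finrank_quot (K := K) H'
        rw [Module.finrank_baseChange, hdim] at h2
        omega
      obtain ⟨J, hJ, hJ'⟩ := exists_pencil_family P hI
      refine ⟨K, i1, i2, H', hH', p, hmap H' hFH hsH, ?_⟩
      have e0 := hspec (evalAt k (0 : K)) J I hJ hI fun x hx => (hJ' x hx).1
      have e1 := hspec (evalAt k (1 : K)) J H' hJ hH' fun x hx => (hJ' x hx).2
      have hsame : cls _ (fam I hI) p ∈ connectedComponent (cls _ (fam H' hH') p) := by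
        rw [e0, e1, Scheme.Hom.comp_apply, Scheme.Hom.comp_apply]
        have hc := isPreconnected_range (cls _ (fam J hJ)).continuous
        exact hc.subset_connectedComponent ⟨_, rfl⟩ ⟨_, rfl⟩
      rw [← connectedComponent_eq hsame] at hx
      exact hx
  refine ⟨?_⟩
  rcases isEmpty_or_nonempty H.left with hE | ⟨⟨x₀⟩⟩
  · rw [Set.univ_eq_empty_iff.2 hE]
    exact isPreconnected_empty
  obtain ⟨K₀, _, _, I₀, hI₀, -, -⟩ := hpts x₀
  have hle := hN K₀ I₀ hI₀
  obtain ⟨F, hF, hconn⟩ := main (Module.finrank k R - n) (by omega)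
  let e : k ⊗[k] R ≃ₐ[k] R := Algebra.TensorProduct.lid k R
  let F₀ : Ideal (k ⊗[k] R) := F.comap e
  haveI : Module.Finite k ((k ⊗[k] R) ⧸ F₀) :=
    Module.Finite.of_surjective (Ideal.Quotient.mkₐ k F₀).toLinearMap Ideal.Quotient.mk_surjective
  have hF₀ : HasBasis n F₀ := by
    refine hasBasis_of_finrank ?_
    have hFmap : F = F₀.map (e : k ⊗[k] R →+* R) :=
      (Ideal.map_comap_of_surjective (e : k ⊗[k] R →+* R) e.surjective F).symm
    rw [(Ideal.quotientEquivAlg F₀ F e hFmap).toLinearEquiv.finrank_eq]
    have := finrank_quot (K := k) F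
    omega
  have hall : ∀ x : H.left, x ∈ connectedComponent (cls _ (fam F₀ hF₀) default) := by
    intro x
    obtain ⟨K, i1, i2, I, hI, p, hFI, hx⟩ := hconn x
    have hle' : ∀ y ∈ F₀, Algebra.TensorProduct.map (Algebra.ofId k K) (AlgHom.id k R) y ∈ I := by
      intro y hy
      have : Algebra.TensorProduct.map (Algebra.ofId k K) (AlgHom.id k R) y =
          (Algebra.TensorProduct.includeRight : R →ₐ[k] K ⊗[k] R) (e y) := by
        clear hy
        induction y using TensorProduct.induction_on with
        | zero => simp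
        | add y y' h h' => simp only [map_add, h, h']
        | tmul c r =>
          simp [e, Algebra.ofId_apply, Algebra.algebraMap_eq_smul_one, TensorProduct.smul_tmul]
      rw [this]
      exact hFI (Ideal.mem_map_of_mem _ hy)
    have e1 := hspec (Algebra.ofId k K) F₀ I hF₀ hI hle'
    rw [e1, Scheme.Hom.comp_apply, Subsingleton.elim (Spec.map _ p) default] at hx
    exact hx
  rw [← Set.eq_univ_of_forall hall]
  exact isPreconnected_connectedComponent

end Groth.Agent.Punct
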