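import Groth.Agent.HilbRep.Fam
import Groth.Agent.HilbRep.ChartRing
import Mathlib

/-!
# Families of points of an affine scheme given by ideals
-/

set_option autoImplicit false
set_option maxSynthPendingDepth 3
universe u

open CategoryTheory CategoryTheory.Limits AlgebraicGeometry
open scoped TensorProduct

noncomputable section

namespace Groth.Agent.Punct

open Groth.Agent.HilbRep

variable (k R : Type u) [Field k] [CommRing R] [Algebra k R] (n : ℕ)

/-- `Spec R ⟶ Spec k`. -/
abbrev f₀ : Spec (CommRingCat.of R) ⟶ Spec (CommRingCat.of k) := Spec.map (CommRingCat.ofHom (algebraMap k R))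

variable {k R}
variable {A : Type u} [CommRing A] [Algebra k A]

/-- The quotient is free of rank `n` over the base. -/
def HasBasis (J : Ideal (A ⊗[k] R)) : Prop :=
  ∃ v : Fin n → (A ⊗[k] R) ⧸ J, Function.Bijective fun c : Fin n → A => ∑ i, algebraMap A _ (c i) * v i

/-- Projection of the family to the base. -/
def pMap (J : Ideal (A ⊗[k] R)) : Spec (CommRingCat.of ((A ⊗[k] R) ⧸ J)) ⟶ Spec (CommRingCat.of A) :=
  Spec.map (CommRingCat.ofHom (algebraMap A ((A ⊗[k] R) ⧸ J)))

/-- The `R`-coordinate. -/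
def rHom (J : Ideal (A ⊗[k] R)) : R →+* (A ⊗[k] R) ⧸ J :=
  (Ideal.Quotient.mk J).comp (Algebra.TensorProduct.includeRight : R →ₐ[k] A ⊗[k] R).toRingHom

/-- Map of the family to `Spec R`. -/
def qMap (J : Ideal (A ⊗[k] R)) : Spec (CommRingCat.of ((A ⊗[k] R) ⧸ J)) ⟶ Spec (CommRingCat.of R) :=
  Spec.map (CommRingCat.ofHom (rHom J))

/-- `Spec A ⟶ Spec k`. -/
abbrev gA (k A : Type u) [Field k] [CommRing A] [Algebra k A] : Spec (CommRingCat.of A) ⟶ Spec (CommRingCat.of k) :=
  Spec.map (CommRingCat.ofHom (algebraMap k A))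

theorem qMap_f (J : Ideal (A ⊗[k] R)) : qMap J ≫ f₀ k R = pMap J ≫ gA k A := by
  rw [qMap, pMap, ← Spec.map_comp, ← Spec.map_comp]
  congr 1
  ext r
  show Ideal.Quotient.mk J ((1 : A) ⊗ₜ[k] algebraMap k R r) = Ideal.Quotient.mk J (algebraMap k A r ⊗ₜ[k] (1 : R))
  rw [Algebra.algebraMap_eq_smul_one, Algebra.algebraMap_eq_smul_one, TensorProduct.smul_tmul]

theorem ringHom_ext {B : Type u} [CommRing B] (J : Ideal (A ⊗[k] R)) (φ ψ : (A ⊗[k] R) ⧸ J →+* B)
    (h1 : φ.comp (algebraMap A _) = ψ.comp (algebraMap A _)) (h2 : φ.comp (rHom J) = ψ.comp (rHom J)) : φ = ψ := by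
  refine RingHom.ext fun y => ?_
  obtain ⟨x, rfl⟩ := Ideal.Quotient.mk_surjective y
  induction x using TensorProduct.induction_on with
  | zero => simp
  | add x y hx hy => simp only [map_add, hx, hy]
  | tmul a r =>
    have e : a ⊗ₜ[k] r = (a ⊗ₜ[k] (1 : R)) * ((1 : A) ⊗ₜ[k] r) := by simp
    rw [e, map_mul, map_mul, map_mul]
    exact congrArg₂ _ (RingHom.congr_fun h1 a) (RingHom.congr_fun h2 r)

variable {n}

theorem mem_pMap {J : Ideal (A ⊗[k] R)} (h : HasBasis n J) : Mor2.IsFinLocFreeOfDeg n (pMap J) := by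
  obtain ⟨v, hv⟩ := h
  let Q := (A ⊗[k] R) ⧸ J
  let L : (Fin n → A) ≃ₗ[A] Q :=
    { Equiv.ofBijective _ hv with
      map_add' := fun a a' => by simp [add_mul, Finset.sum_add_distrib]
      map_smul' := fun c a => by simp [Q, Algebra.smul_def, Finset.mul_sum, mul_assoc] }
  haveI : Module.Finite A Q := Module.Finite.equiv L
  haveI : Module.Free A Q := Module.Free.of_equiv L
  have h1 : (algebraMap A Q).Finite := RingHom.finite_algebraMap.mpr inferInstance
  have h2 : (algebraMap A Q).Flat := RingHom.flat_algebraMap_iff.mpr inferInstance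
  haveI : Module.FinitePresentation A Q := Module.finitePresentation_of_projective A _
  have h3 : (algebraMap A Q).FinitePresentation :=
    RingHom.finitePresentation_algebraMap.mpr (Algebra.FinitePresentation.of_finitePresentation _ _)
  refine ⟨⟨(IsFinite.SpecMap_iff (f := CommRingCat.ofHom _)).mpr h1, (Flat.SpecMap_iff (f := CommRingCat.ofHom _)).mpr h2,
    (HasRingHomProperty.Spec_iff (P := @LocallyOfFinitePresentation)).mpr h3⟩, fun y => ?_⟩
  rw [pMap, Scheme.Hom.finrank_SpecMap_eq_finrank h1 h2, CommRingCat.hom_ofHom, RingHom.finrank_algebraMap]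
  haveI : Nontrivial A := PrimeSpectrum.nontrivial y
  rw [Module.rankAtStalk_eq_finrank_of_free]
  change Module.finrank A Q = n
  rw [← L.finrank_eq]
  simp

theorem isClosedImmersion_lift {J : Ideal (A ⊗[k] R)} (h : HasBasis n J) :
    IsClosedImmersion (pullback.lift (qMap J) (pMap J) (qMap_f J)) := by
  haveI : IsFinite (pMap J) := (mem_pMap h).1.1
  haveI : IsFinite (pullback.lift (qMap J) (pMap J) (qMap_f J) ≫ pullback.snd (f₀ k R) (gA k A)) := by
    rw [pullback.lift_snd]; infer_instance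
  haveI : Mono (pullback.lift (qMap J) (pMap J) (qMap_f J)) := by
    refine ⟨fun {Y} a a' e => ?_⟩
    have hp := congrArg (· ≫ pullback.snd (f₀ k R) (gA k A)) e
    have hq := congrArg (· ≫ pullback.fst (f₀ k R) (gA k A)) e
    simp only [Category.assoc, pullback.lift_snd, pullback.lift_fst] at hp hq
    have key : ∀ {B : CommRingCat.{u}} (b b' : Spec B ⟶ Spec (CommRingCat.of ((A ⊗[k] R) ⧸ J))),
        b ≫ pMap J = b' ≫ pMap J → b ≫ qMap J = b' ≫ qMap J → b = b' := by
      intro B b b' h1 h2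
      obtain ⟨φ, rfl⟩ := Spec.map_surjective b
      obtain ⟨ψ, rfl⟩ := Spec.map_surjective b'
      rw [pMap, ← Spec.map_comp, ← Spec.map_comp] at h1
      rw [qMap, ← Spec.map_comp, ← Spec.map_comp] at h2
      exact congrArg Spec.map (CommRingCat.hom_ext (ringHom_ext J φ.hom ψ.hom
        (congrArg CommRingCat.Hom.hom (Spec.map_injective h1)) (congrArg CommRingCat.Hom.hom (Spec.map_injective h2))))
    refine Y.affineCover.hom_ext _ _ fun i => key _ _ ?_ ?_
    · exact (Category.assoc _ _ _).trans ((congrArg (Y.affineCover.f i ≫ ·) hp).trans (Category.assoc _ _ _).symm)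
    · exact (Category.assoc _ _ _).trans ((congrArg (Y.affineCover.f i ≫ ·) hq).trans (Category.assoc _ _ _).symm)
  exact (IsClosedImmersion.iff_isFinite_and_mono _).mpr ⟨IsFinite.of_comp _ (pullback.snd (f₀ k R) (gA k A)), inferInstance⟩

/-- The family of points attached to an ideal. -/
def fam (J : Ideal (A ⊗[k] R)) (h : HasBasis n J) : Fam (f₀ k R) n (Spec (CommRingCat.of A)) :=
  haveI := isClosedImmersion_lift h
  Fam.ofPair (gA k A) (pMap J) (qMap J) (qMap_f J) (mem_pMap h)

theorem exists_iso_fam (J : Ideal (A ⊗[k] R)) (h : HasBasis n J) :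
    ∃ e : Spec (CommRingCat.of ((A ⊗[k] R) ⧸ J)) ≅ (fam J h).sch,
      e.hom ≫ (fam J h).p = pMap J ∧ e.hom ≫ (fam J h).q = qMap J :=
  haveI := isClosedImmersion_lift h
  Fam.exists_iso_ofPair (gA k A) (pMap J) (qMap J) (qMap_f J) (mem_pMap h)

/-- Specialisation of families given by ideals. -/
theorem fam_eq_restr {A' : Type u} [CommRing A'] [Algebra k A'] (φ : A →ₐ[k] A') {J : Ideal (A ⊗[k] R)}
    {J' : Ideal (A' ⊗[k] R)} (h : HasBasis n J) (h' : HasBasis n J') (τ : (A ⊗[k] R) ⧸ J →+* (A' ⊗[k] R) ⧸ J')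
    (hA : τ.comp (algebraMap A _) = (algebraMap A' _).comp φ.toRingHom) (hR : τ.comp (rHom J) = rHom J')
    (v : Fin n → (A ⊗[k] R) ⧸ J) (hv : Function.Bijective fun c : Fin n → A => ∑ i, algebraMap A _ (c i) * v i)
    (hv' : Function.Bijective fun c : Fin n → A' => ∑ i, algebraMap A' _ (c i) * τ (v i)) :
    fam J' h' = (fam J h).restr (Spec.map (CommRingCat.ofHom φ.toRingHom)) := by
  obtain ⟨e, hep, heq⟩ := exists_iso_fam J h
  obtain ⟨e', hep', heq'⟩ := exists_iso_fam J' h'
  have hpo := isPushout_of_basis φ.toRingHom (algebraMap A _) (algebraMap A' _) τ hA v hv hv'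
  have hpb := (isPullback_SpecMap_of_isPushout _ _ _ _ hpo).flip
  refine (fam J h).eq_restr _ ?_ (e'.inv ≫ Spec.map (CommRingCat.ofHom τ) ≫ e.hom) ?_ ?_
  · show gA k A' = _ ≫ gA k A
    rw [gA, gA, ← Spec.map_comp]
    congr 1
    ext r
    exact (φ.commutes r).symm
  · refine IsPullback.of_iso hpb e' e (Iso.refl _) (Iso.refl _) ?_ ?_ ?_ ?_
    · simp
    · simp only [Iso.refl_hom, Category.comp_id]
      exact hep'.symm
    · simp only [Iso.refl_hom, Category.comp_id]
      exact hep.symm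
    · simp
  · rw [Category.assoc, Category.assoc, heq, ← cancel_epi e'.hom, Iso.hom_inv_id_assoc, heq', qMap, qMap,
      ← Spec.map_comp]
    congr 1
    exact CommRingCat.hom_ext hR

/-- Points over a field come from ideals. -/
theorem exists_ideal_of_fam {K : Type u} [Field K] [Algebra k K] (z : Fam (f₀ k R) n (Spec (CommRingCat.of K)))
    (hg : z.g = gA k K) : ∃ (I : Ideal (K ⊗[k] R)) (h : HasBasis n I), fam I h = z := by
  obtain ⟨g, Z⟩ := z
  subst hg
  let z : Fam (f₀ k R) n (Spec (CommRingCat.of K)) := ⟨gA k K, Z⟩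
  let i : z.sch ⟶ Spec (CommRingCat.of (K ⊗[k] R)) :=
    z.Z.1.subschemeι ≫ (pullbackSymmetry (f₀ k R) (gA k K)).hom ≫ (pullbackSpecIso k K R).hom
  haveI : IsClosedImmersion i := by
    dsimp only [i]; infer_instance
  obtain ⟨I, ε, hε⟩ := (IsClosedImmersion.Spec_iff (R := CommRingCat.of (K ⊗[k] R)) (f := i)).1 ‹_›
  have hi : ∀ {B : Type u} [CommRing B] (ψ : B →+* K ⊗[k] R),
      i ≫ Spec.map (CommRingCat.ofHom ψ) =
        ε.hom ≫ Spec.map (CommRingCat.ofHom ((Ideal.Quotient.mk I).comp ψ)) := by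
    intro B _ ψ
    rw [hε, Category.assoc, ← Spec.map_comp]
    rfl
  have hp : z.p = ε.hom ≫ pMap I := by
    rw [pMap, show algebraMap K ((K ⊗[k] R) ⧸ I) = (Ideal.Quotient.mk I).comp (algebraMap K (K ⊗[k] R)) from rfl,
      ← hi]
    simp only [i, Category.assoc, pullbackSpecIso_hom_fst', pullbackSymmetry_hom_comp_fst]
    rfl
  have hq : z.q = ε.hom ≫ qMap I := by
    rw [qMap, rHom, ← hi]
    simp only [i, Category.assoc, AlgHom.toRingHom_eq_coe]
    refine congrArg (z.Z.1.subschemeι ≫ ·) ?_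
    exact ((congrArg ((pullbackSymmetry (f₀ k R) (gA k K)).hom ≫ ·) (pullbackSpecIso_hom_snd k K R)).trans
      (pullbackSymmetry_hom_comp_snd _ _)).symm
  obtain ⟨⟨h1, h2, h3⟩, hd⟩ : Mor2.IsFinLocFreeOfDeg n z.p := z.mem
  have hp' : pMap I = ε.inv ≫ z.p := by rw [hp, Iso.inv_hom_id_assoc]
  replace h1 : IsFinite (pMap I) := by rw [hp']; infer_instance
  replace h2 : Flat (pMap I) := by rw [hp']; infer_instance
  rw [hp] at hd
  let Q := (K ⊗[k] R) ⧸ I
  have h1' : (algebraMap K Q).Finite := (IsFinite.SpecMap_iff (f := CommRingCat.ofHom _)).mp h1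
  have h2' : (algebraMap K Q).Flat := (Flat.SpecMap_iff (f := CommRingCat.ofHom _)).mp h2
  haveI : Module.Finite K Q := RingHom.finite_algebraMap.mp h1'
  have hn : Module.finrank K Q = n := by
    have hd' := hd default
    rw [Scheme.Hom.finrank_comp_left_of_isIso, pMap, Scheme.Hom.finrank_SpecMap_eq_finrank h1' h2',
      CommRingCat.hom_ofHom, RingHom.finrank_algebraMap, Module.rankAtStalk_eq_finrank_of_free] at hd'
    exact hd'
  let b := Module.finBasisOfFinrankEq K Q hn
  have hB : HasBasis n I := ⟨b, by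
    convert b.equivFun.symm.bijective using 1
    funext c
    rw [Module.Basis.equivFun_symm_apply]
    simp [Q, Algebra.smul_def]⟩
  refine ⟨I, hB, ?_⟩
  obtain ⟨e, hep, heq⟩ := exists_iso_fam I hB
  refine Fam.ext_iso rfl (e.symm ≪≫ ε.symm) ?_ ?_
  · rw [hp, Iso.trans_hom, Category.assoc, Iso.symm_hom, Iso.symm_hom, Iso.inv_hom_id_assoc, ← hep,
      Iso.inv_hom_id_assoc]
  · rw [hq, Iso.trans_hom, Category.assoc, Iso.symm_hom, Iso.symm_hom, Iso.inv_hom_id_assoc, ← heq,
      Iso.inv_hom_id_assoc]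

end Groth.Agent.Punct
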