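import Mathlib

/-!
# Pencils of ideals of fixed colength in a finite local algebra
-/

set_option autoImplicit false

universe u

noncomputable section

namespace Groth.Agent.Punct

open Submodule

variable {K : Type u} [Field K] {E : Type u} [CommRing E] [Algebra K E]

/-- `m` is a nilpotent ideal with residue field `K`. -/
structure IsPointlike (m : Ideal E) : Prop where
  decomp : ∀ x : E, ∃ c : K, x - algebraMap K E c ∈ m
  nilp : ∃ N : ℕ, m ^ N = ⊥

theorem IsPointlike.exists_socle_step {m : Ideal E} (hm : IsPointlike (K := K) m) {F : Ideal E} (hF : F ≠ ⊤) :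
    ∃ s, s ∉ F ∧ ∀ x ∈ m, x * s ∈ F := by
  classical
  obtain ⟨N, hN⟩ := hm.nilp
  have hex : ∃ i, m ^ i ≤ F := ⟨N, hN ▸ bot_le⟩
  have hi := Nat.find_spec hex
  obtain ⟨i, hi'⟩ : ∃ i, Nat.find hex = i + 1 := by
    refine Nat.exists_eq_succ_of_ne_zero fun h => hF ?_
    rw [h, pow_zero, Ideal.one_eq_top, top_le_iff] at hi
    exact hi
  rw [hi'] at hi
  obtain ⟨s, hs, hsF⟩ := SetLike.not_le_iff_exists.1 (Nat.find_min hex (m := i) (by omega))
  exact ⟨s, hsF, fun x hx => hi (pow_succ' m i ▸ Ideal.mul_mem_mul hx hs)⟩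

/-- `F + K s` as an ideal. -/
theorem IsPointlike.exists_extend {m : Ideal E} (hm : IsPointlike (K := K) m) (F : Ideal E) {s : E}
    (hs : ∀ x ∈ m, x * s ∈ F) :
    ∃ G : Ideal E, F ≤ G ∧ s ∈ G ∧ (G.restrictScalars K) = F.restrictScalars K ⊔ K ∙ s := by
  let P : Submodule K E := F.restrictScalars K ⊔ K ∙ s
  refine ⟨{ carrier := P, add_mem' := P.add_mem, zero_mem' := P.zero_mem, smul_mem' := ?_ },
    fun x hx => show x ∈ P from mem_sup_left hx, show s ∈ P from mem_sup_right (mem_span_singleton_self s), rfl⟩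
  intro r x hx
  obtain ⟨y, hy, z, hz, rfl⟩ := mem_sup.1 hx
  obtain ⟨c, rfl⟩ := mem_span_singleton.1 hz
  obtain ⟨l, hl⟩ := hm.decomp r
  have e : r • (y + c • s) = (r * y + c • ((r - algebraMap K E l) * s)) + (c * l) • s := by
    simp only [smul_eq_mul, Algebra.smul_def, map_mul]; ring
  show r • (y + c • s) ∈ P
  rw [e]
  exact add_mem (mem_sup_left (add_mem (F.mul_mem_left r hy) (Submodule.smul_mem (F.restrictScalars K) c (hs _ hl))))
    (mem_sup_right (mem_span_singleton.2 ⟨_, rfl⟩))

theorem finrank_sup_singleton [Module.Finite K E] (P : Submodule K E) {s : E} (hs : s ∉ P) :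
    Module.finrank K ↥(P ⊔ K ∙ s) = Module.finrank K ↥P + 1 := by
  have h0 : s ≠ 0 := fun h => hs (h ▸ P.zero_mem)
  have h1 := Submodule.finrank_sup_add_finrank_inf_eq P (K ∙ s)
  have h2 : P ⊓ (K ∙ s) = ⊥ := by
    rw [eq_bot_iff]
    rintro x ⟨hx, hx'⟩
    obtain ⟨c, rfl⟩ := mem_span_singleton.1 hx'
    rcases eq_or_ne c 0 with rfl | hc
    · simp
    · exact absurd ((P.smul_mem_iff hc).1 hx) hs
  rw [h2, finrank_bot, add_zero, finrank_span_singleton h0] at h1
  exact h1

theorem finrank_quot (I : Ideal E) [Module.Finite K E] :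
    Module.finrank K (E ⧸ I) + Module.finrank K ↥(I.restrictScalars K) = Module.finrank K E := by
  rw [← (I.restrictScalars K).finrank_quotient_add_finrank, (Submodule.Quotient.restrictScalarsEquiv K I).finrank_eq]

/-- A pencil joining two ideals. -/
structure Pencil (I H : Ideal E) : Type u where
  W : Ideal E
  a : E
  b : E
  α : E →ₗ[K] K
  W_le : W ≤ I
  W_le' : W ≤ H
  a_mem : a ∈ I
  b_mem : b ∈ H
  α_W : ∀ w ∈ W, α w = 0
  α_a : α a = 1
  α_b : α b = 1
  sub_mem : ∀ x ∈ I, x - α x • a ∈ W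
  stable : ∀ x : E, ∃ c : K, x * a - c • a ∈ W ∧ x * b - c • b ∈ W

/-- One step towards a given flag. -/
theorem IsPointlike.exists_pencil [Module.Finite K E] {m : Ideal E} (hm : IsPointlike (K := K) m) {I F : Ideal E}
    (hFI : F ≤ I) (hne : F ≠ I) {s : E} (hs : ∀ x ∈ m, x * s ∈ F) (hsI : s ∉ I) :
    ∃ H : Ideal E, F ≤ H ∧ s ∈ H ∧
      Module.finrank K ↥(H.restrictScalars K) = Module.finrank K ↥(I.restrictScalars K) ∧
      Nonempty (Pencil (K := K) I H) := by
  classical
  have hlt : m * I ⊔ F < I := by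
    refine lt_of_le_of_ne (sup_le Ideal.mul_le_right hFI) fun h => hne (le_antisymm hFI ?_)
    have key : ∀ i : ℕ, I ≤ m ^ i ⊔ F := by
      intro i
      induction i with
      | zero => simp
      | succ i ih =>
        calc I = m * I ⊔ F := h.symm
          _ ≤ m * (m ^ i ⊔ F) ⊔ F := sup_le_sup_right (Ideal.mul_mono_right ih) F
          _ ≤ m ^ (i + 1) ⊔ F := by
            rw [Ideal.mul_sup, pow_succ']
            exact sup_le (sup_le le_sup_left (Ideal.mul_le_right.trans le_sup_right)) le_sup_right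
    obtain ⟨N, hN⟩ := hm.nilp
    have h' := key N
    rwa [hN, bot_sup_eq] at h'
  obtain ⟨a, haI, haM⟩ := SetLike.exists_of_lt hlt
  obtain ⟨β, hβa, hβ⟩ := Submodule.exists_dual_map_eq_bot_of_notMem (p := (m * I ⊔ F).restrictScalars K) haM inferInstance
  have hβ' : ∀ x ∈ m * I ⊔ F, β x = 0 := fun x hx => by
    rw [← Submodule.mem_bot K, ← hβ]; exact ⟨x, hx, rfl⟩
  let P : Submodule K E := I.restrictScalars K ⊓ LinearMap.ker β
  let W : Ideal E :=
    { carrier := P, add_mem' := P.add_mem, zero_mem' := P.zero_mem,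
      smul_mem' := fun r x hx => by
        obtain ⟨hxI, hxβ⟩ := hx
        obtain ⟨l, hl⟩ := hm.decomp r
        refine ⟨I.mul_mem_left r hxI, ?_⟩
        have e : r • x = (r - algebraMap K E l) * x + l • x := by simp [Algebra.smul_def, sub_mul]
        show β (r • x) = 0
        rw [e, map_add, map_smul, hxβ, smul_zero, add_zero,
          hβ' _ (mem_sup_left (Ideal.mul_mem_mul hl hxI))] }
  have hFW : F ≤ W := fun x hx => ⟨hFI hx, hβ' x (mem_sup_right hx)⟩
  have hmIW : m * I ≤ W := fun x hx => ⟨Ideal.mul_le_right hx, hβ' x (mem_sup_left hx)⟩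
  obtain ⟨H, hWH, hsH, hH⟩ := hm.exists_extend W (s := s) fun x hx => hFW (hs x hx)
  have haW : a ∉ W := fun h => hβa h.2
  have hI : I.restrictScalars K = W.restrictScalars K ⊔ K ∙ a := by
    refine le_antisymm (fun x hx => ?_)
      (sup_le (fun x hx => hx.1) (by rw [span_singleton_le_iff_mem]; exact haI))
    refine mem_sup.2 ⟨x - (β x / β a) • a, ⟨?_, ?_⟩, _, mem_span_singleton.2 ⟨_, rfl⟩, sub_add_cancel _ _⟩
    · exact Submodule.sub_mem (I.restrictScalars K) hx (Submodule.smul_mem _ _ haI)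
    · show β _ = 0
      rw [map_sub, map_smul, smul_eq_mul, div_mul_cancel₀ _ hβa, sub_self]
  have hdim : Module.finrank K ↥(H.restrictScalars K) = Module.finrank K ↥(I.restrictScalars K) := by
    rw [hH, hI, finrank_sup_singleton (W.restrictScalars K) (s := s) (fun h => hsI h.1),
      finrank_sup_singleton (W.restrictScalars K) (s := a) haW]
  have hq : a ∉ W.restrictScalars K ⊔ K ∙ (s - a) := by
    intro h
    obtain ⟨w, hw, z, hz, hwz⟩ := mem_sup.1 h
    obtain ⟨c, rfl⟩ := mem_span_singleton.1 hz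
    rcases eq_or_ne c 0 with rfl | hc
    · simp only [zero_smul, add_zero] at hwz
      exact haW (hwz ▸ hw)
    · refine hsI ?_
      have : c • s ∈ I.restrictScalars K := by
        have e : c • s = a + c • a - w := by
          nth_rw 1 [← hwz]
          rw [smul_sub]; abel
        rw [e]
        exact sub_mem (add_mem haI (Submodule.smul_mem _ _ haI)) hw.1
      exact (Submodule.smul_mem_iff _ hc).1 this
  obtain ⟨γ, hγa, hγ⟩ := Submodule.exists_dual_map_eq_bot_of_notMem hq inferInstance
  have hγ' : ∀ x ∈ W.restrictScalars K ⊔ K ∙ (s - a), γ x = 0 := fun x hx => by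
    rw [← Submodule.mem_bot K, ← hγ]; exact ⟨x, hx, rfl⟩
  refine ⟨H, hFW.trans hWH, hsH, hdim, ⟨⟨W, a, s, (γ a)⁻¹ • γ, fun x hx => hx.1, hWH, haI, hsH, fun w hw => ?_,
    by simp [hγa], ?_, fun x hx => ?_, fun x => ?_⟩⟩⟩
  · simp [hγ' w (mem_sup_left hw)]
  · have h := hγ' (s - a) (mem_sup_right (mem_span_singleton_self _))
    rw [map_sub, sub_eq_zero] at h
    simp [h, hγa]
  · obtain ⟨w, hw, z, hz, rfl⟩ := mem_sup.1 (hI.le hx)
    obtain ⟨c, rfl⟩ := mem_span_singleton.1 hz
    have : ((γ a)⁻¹ • γ) (w + c • a) = c := by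
      simp [hγ' w (mem_sup_left hw), hγa, mul_comm]
    rw [this, add_sub_cancel_right]
    exact hw
  · obtain ⟨c, hc⟩ := hm.decomp x
    refine ⟨c, ?_, ?_⟩
    · rw [Algebra.smul_def, ← sub_mul]
      exact hmIW (Ideal.mul_mem_mul hc haI)
    · rw [Algebra.smul_def, ← sub_mul]
      exact hFW (hs _ hc)

/-- Residue field of a finite local algebra over an algebraically closed field. -/
theorem isPointlike_maximalIdeal (k R : Type u) [Field k] [IsAlgClosed k] [CommRing R] [Algebra k R] [IsLocalRing R]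
    [Module.Finite k R] : IsPointlike (K := k) (IsLocalRing.maximalIdeal R) := by
  haveI : IsArtinianRing R := IsArtinianRing.of_finite k R
  refine ⟨fun x => ?_, ?_⟩
  · haveI : Module.Finite k (IsLocalRing.ResidueField R) :=
      Module.Finite.of_surjective (IsScalarTower.toAlgHom k R (IsLocalRing.ResidueField R)).toLinearMap
        IsLocalRing.residue_surjective
    obtain ⟨c, hc⟩ := (IsAlgClosed.algebraMap_bijective_of_isIntegral (k := k) (K := IsLocalRing.ResidueField R)).2
      (IsLocalRing.residue R x)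
    refine ⟨c, ?_⟩
    rw [← IsLocalRing.residue_eq_zero_iff, map_sub, sub_eq_zero, ← hc]
    exact IsScalarTower.algebraMap_apply k R (IsLocalRing.ResidueField R) c
  · obtain ⟨N, hN⟩ := IsArtinianRing.isNilpotent_jacobson_bot (R := R)
    rw [IsLocalRing.jacobson_eq_maximalIdeal ⊥ bot_ne_top] at hN
    exact ⟨N, hN⟩

/-- The base change of the maximal ideal is pointlike. -/
theorem IsPointlike.baseChange {k R : Type u} [Field k] [CommRing R] [Algebra k R] {m : Ideal R}
    (hm : IsPointlike (K := k) m) (K : Type u) [Field K] [Algebra k K] :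
    IsPointlike (K := K) (m.map (Algebra.TensorProduct.includeRight : R →ₐ[k] TensorProduct k K R)) := by
  refine ⟨fun x => ?_, ?_⟩
  · induction x using TensorProduct.induction_on with
    | zero => exact ⟨0, by simp⟩
    | tmul c r =>
      obtain ⟨l, hl⟩ := hm.decomp r
      refine ⟨c * algebraMap k K l, ?_⟩
      have e : c ⊗ₜ[k] r - algebraMap K (TensorProduct k K R) (c * algebraMap k K l) =
          (c ⊗ₜ[k] (1 : R)) * Algebra.TensorProduct.includeRight (r - algebraMap k R l) := by
        rw [Algebra.TensorProduct.algebraMap_apply, Algebra.TensorProduct.includeRight_apply,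
          Algebra.TensorProduct.tmul_mul_tmul, one_mul, mul_one, TensorProduct.tmul_sub, Algebra.algebraMap_self,
          RingHom.id_apply, Algebra.algebraMap_eq_smul_one l, Algebra.algebraMap_eq_smul_one l, mul_smul_comm,
          mul_one, TensorProduct.smul_tmul]
      rw [e]
      exact Ideal.mul_mem_left _ _ (Ideal.mem_map_of_mem _ hl)
    | add x y hx hy =>
      obtain ⟨c, hc⟩ := hx
      obtain ⟨c', hc'⟩ := hy
      refine ⟨c + c', ?_⟩
      rw [map_add, add_sub_add_comm]
      exact add_mem hc hc'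
  · obtain ⟨N, hN⟩ := hm.nilp
    exact ⟨N, by rw [← Ideal.map_pow, hN, Ideal.map_bot]⟩

end Groth.Agent.Punct
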