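import Groth.Agent.Punct.Ideal
import Groth.Agent.Punct.Family
import Mathlib

/-!
# The family of a pencil, and specialisation to field-valued points
-/

set_option autoImplicit false
set_option maxSynthPendingDepth 3
universe u

open CategoryTheory AlgebraicGeometry
open scoped TensorProduct

noncomputable section

namespace Groth.Agent.Punct

open Groth.Agent.HilbRep

variable {k R : Type u} [Field k] [CommRing R] [Algebra k R] {n : ℕ}
  {K : Type u} [Field K] [Algebra k K]

theorem HasBasis.finite_finrank {I : Ideal (K ⊗[k] R)} (h : HasBasis n I) :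
    Module.Finite K ((K ⊗[k] R) ⧸ I) ∧ Module.finrank K ((K ⊗[k] R) ⧸ I) = n := by
  obtain ⟨v, hv⟩ := h
  let L : (Fin n → K) →ₗ[K] (K ⊗[k] R) ⧸ I := Fintype.linearCombination K v
  have hL : Function.Bijective L := by
    convert hv using 1
    funext c
    simp [L, Fintype.linearCombination_apply, Algebra.smul_def]
  refine ⟨Module.Finite.equiv (LinearEquiv.ofBijective L hL), ?_⟩
  rw [← (LinearEquiv.ofBijective L hL).finrank_eq, Module.finrank_fin_fun]

theorem hasBasis_of_finrank {I : Ideal (K ⊗[k] R)} [Module.Finite K ((K ⊗[k] R) ⧸ I)]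
    (hn : Module.finrank K ((K ⊗[k] R) ⧸ I) = n) : HasBasis n I := by
  let b := Module.finBasisOfFinrankEq K ((K ⊗[k] R) ⧸ I) hn
  refine ⟨b, ?_⟩
  convert b.equivFun.symm.bijective using 1
  funext c
  rw [Module.Basis.equivFun_symm_apply]
  simp [Algebra.smul_def]

/-- A family specialises to any point of colength `n` containing the image of its ideal. -/
theorem fam_specialize {A : Type u} [CommRing A] [Algebra k A] (φ : A →ₐ[k] K) {J : Ideal (A ⊗[k] R)}
    {I : Ideal (K ⊗[k] R)} (hJ : HasBasis n J) (hI : HasBasis n I)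
    (h : ∀ x ∈ J, Algebra.TensorProduct.map φ (AlgHom.id k R) x ∈ I) :
    fam I hI = (fam J hJ).restr (Spec.map (CommRingCat.ofHom φ.toRingHom)) := by
  classical
  obtain ⟨v, hv⟩ := id hJ
  let τ : (A ⊗[k] R) ⧸ J →+* (K ⊗[k] R) ⧸ I :=
    Ideal.quotientMap I (Algebra.TensorProduct.map φ (AlgHom.id k R)).toRingHom h
  have hA : τ.comp (algebraMap A _) = (algebraMap K _).comp φ.toRingHom := RingHom.ext fun a => by
    show Ideal.Quotient.mk I (Algebra.TensorProduct.map φ (AlgHom.id k R) (a ⊗ₜ[k] (1 : R))) =
      Ideal.Quotient.mk I (φ a ⊗ₜ[k] (1 : R))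
    simp
  have hR : τ.comp (rHom J) = rHom I := RingHom.ext fun r => by
    show Ideal.Quotient.mk I (Algebra.TensorProduct.map φ (AlgHom.id k R) ((1 : A) ⊗ₜ[k] r)) =
      Ideal.Quotient.mk I ((1 : K) ⊗ₜ[k] r)
    simp
  refine fam_eq_restr φ hJ hI τ hA hR v hv ?_
  obtain ⟨hfin, hn⟩ := hI.finite_finrank
  let L : (Fin n → K) →ₗ[K] (K ⊗[k] R) ⧸ I := Fintype.linearCombination K fun i => τ (v i)
  have hLa : ∀ c, L c = ∑ i, algebraMap K _ (c i) * τ (v i) := fun c => by
    simp [L, Fintype.linearCombination_apply, Algebra.smul_def]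
  have hsur : Function.Surjective L := by
    intro y
    obtain ⟨x, rfl⟩ := Ideal.Quotient.mk_surjective y
    induction x using TensorProduct.induction_on with
    | zero => exact ⟨0, by simp⟩
    | add x y hx hy =>
      obtain ⟨c, hc⟩ := hx
      obtain ⟨c', hc'⟩ := hy
      exact ⟨c + c', by rw [map_add, map_add, hc, hc']⟩
    | tmul c r =>
      obtain ⟨d, hd⟩ := hv.2 (rHom J r)
      refine ⟨c • fun i => φ (d i), ?_⟩
      rw [map_smul, hLa, Algebra.smul_def]
      have e : ∑ i, algebraMap K ((K ⊗[k] R) ⧸ I) (φ (d i)) * τ (v i) = rHom I r := by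
        rw [← hR, RingHom.comp_apply, ← hd, map_sum]
        exact Finset.sum_congr rfl fun i _ => by rw [map_mul]; exact congrArg (· * _) (RingHom.congr_fun hA (d i)).symm
      rw [e]
      show Ideal.Quotient.mk I (c ⊗ₜ[k] (1 : R)) * Ideal.Quotient.mk I ((1 : K) ⊗ₜ[k] r) = _
      rw [← map_mul, Algebra.TensorProduct.tmul_mul_tmul, mul_one, one_mul]
  haveI := hfin
  have hinj : Function.Injective L :=
    (LinearMap.injective_iff_surjective_of_finrank_eq_finrank (by rw [hn, Module.finrank_fin_fun])).2 hsur
  convert (show Function.Bijective L from ⟨hinj, hsur⟩) using 1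
  exact funext fun c => (hLa c).symm

/-- Constants `K ⊗ R ⟶ K[t] ⊗ R`. -/
abbrev incl (k R K : Type u) [Field k] [CommRing R] [Algebra k R] [Field K] [Algebra k K] :
    K ⊗[k] R →ₐ[k] Polynomial K ⊗[k] R :=
  Algebra.TensorProduct.map (IsScalarTower.toAlgHom k K (Polynomial K)) (AlgHom.id k R)

/-- Evaluation at a constant. -/
abbrev evalAt (k : Type u) {K : Type u} [Field k] [Field K] [Algebra k K] (c : K) : Polynomial K →ₐ[k] K :=
  (Polynomial.aeval c).restrictScalars k

theorem evalAt_incl (c : K) (x : K ⊗[k] R) :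
    Algebra.TensorProduct.map (evalAt k c) (AlgHom.id k R) (incl k R K x) = x := by
  induction x using TensorProduct.induction_on with
  | zero => simp
  | add x y hx hy => simp only [map_add, hx, hy]
  | tmul a r => simp

theorem exists_pencil_family {I H : Ideal (K ⊗[k] R)} (P : Pencil (K := K) I H) (hI : HasBasis n I) :
    ∃ J : Ideal (Polynomial K ⊗[k] R), HasBasis n J ∧
      ∀ x ∈ J, Algebra.TensorProduct.map (evalAt k 0) (AlgHom.id k R) x ∈ I ∧
        Algebra.TensorProduct.map (evalAt k 1) (AlgHom.id k R) x ∈ H := by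
  classical
  obtain ⟨hfin, hn⟩ := hI.finite_finrank
  haveI := hfin
  let ε := (Module.finBasisOfFinrankEq K ((K ⊗[k] R) ⧸ I) hn).equivFun
  let ψ : K ⊗[k] R →ₗ[K] (Fin n → K) := ε.toLinearMap.comp (Ideal.Quotient.mkₐ K I).toLinearMap
  have hψ0 : ∀ x, ψ x = 0 ↔ x ∈ I := fun x => by
    show ε (Ideal.Quotient.mk I x) = 0 ↔ _
    rw [map_eq_zero_iff _ ε.injective, Ideal.Quotient.eq_zero_iff_mem]
  have hψs : Function.Surjective ψ := ε.surjective.comp Ideal.Quotient.mk_surjective
  obtain ⟨s₀, hs₀⟩ := ψ.exists_rightInverse_of_surjective (LinearMap.range_eq_top.2 hψs)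
  obtain ⟨W, a, b, α, hWI, hWH, ha, hb, hαW, hαa, hαb, hsub, hstab⟩ := P
  have hψW : ∀ w ∈ W, ψ w = 0 := fun w hw => (hψ0 w).2 (hWI hw)
  have hψa : ψ a = 0 := (hψ0 a).2 ha
  let s : (Fin n → K) →ₗ[K] K ⊗[k] R := s₀ - (α.comp s₀).smulRight a
  have hψsid : ∀ c, ψ (s c) = c := fun c => by
    have := LinearMap.congr_fun hs₀ c
    simp only [LinearMap.comp_apply, LinearMap.id_apply] at this
    simp [s, hψa, this]
  have hαs : ∀ c, α (s c) = 0 := fun c => by simp [s, hαa]
  let e : Fin n → K := ψ (b - a)
  let v : Polynomial K ⊗[k] R := incl k R K a + (Polynomial.X : Polynomial K) • incl k R K (b - a)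
  let J : Ideal (Polynomial K ⊗[k] R) := Ideal.span (Set.image (incl k R K) (W : Set (K ⊗[k] R)) ∪ {v})
  let Φ₀ : R →ₗ[k] (Fin n → Polynomial K) :=
    { toFun := fun r i => Polynomial.C (ψ ((1 : K) ⊗ₜ[k] r) i) -
        Polynomial.X * Polynomial.C (α ((1 : K) ⊗ₜ[k] r) * e i)
      map_add' := fun r r' => by
        funext i
        simp only [TensorProduct.tmul_add, map_add, Pi.add_apply, add_mul]
        ring
      map_smul' := fun c r => by
        funext i
        simp only [TensorProduct.tmul_smul, RingHom.id_apply, Pi.smul_apply]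
        rw [algebra_compatible_smul K c, map_smul, map_smul, Algebra.smul_def c (_ - _ : Polynomial K)]
        simp only [Pi.smul_apply, smul_eq_mul, map_mul, IsScalarTower.algebraMap_apply k K (Polynomial K),
          Polynomial.algebraMap_eq]
        ring }
  let Φ : Polynomial K ⊗[k] R →ₗ[Polynomial K] (Fin n → Polynomial K) := Φ₀.liftBaseChange (Polynomial K)
  have hΦι : ∀ x, Φ (incl k R K x) =
      fun i => Polynomial.C (ψ x i) - Polynomial.X * Polynomial.C (α x * e i) := by
    intro x
    induction x using TensorProduct.induction_on with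
    | zero => funext i; simp
    | add x y hx hy =>
      funext i
      simp only [map_add, hx, hy, Pi.add_apply, add_mul]
      ring
    | tmul c r =>
      have e1 : c ⊗ₜ[k] r = c • ((1 : K) ⊗ₜ[k] r) := by rw [TensorProduct.smul_tmul', smul_eq_mul, mul_one]
      funext i
      simp only [Algebra.TensorProduct.map_tmul, IsScalarTower.coe_toAlgHom', AlgHom.id_apply, Φ,
        LinearMap.liftBaseChange_tmul, Polynomial.algebraMap_eq, Pi.smul_apply, smul_eq_mul, Φ₀, LinearMap.coe_mk,
        AddHom.coe_mk]
      rw [e1, map_smul, map_smul]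
      simp only [Pi.smul_apply, smul_eq_mul, map_mul]
      ring
  have hmulι : ∀ (p : Polynomial K) (r : R) (x : K ⊗[k] R),
      (p ⊗ₜ[k] r) * incl k R K x = p • incl k R K (((1 : K) ⊗ₜ[k] r) * x) := by
    intro p r x
    rw [map_mul, Algebra.smul_def, ← mul_assoc]
    congr 1
    simp [Algebra.TensorProduct.algebraMap_apply]
  have hJ : ∀ x ∈ J, ∀ y, Φ (y * x) = 0 := by
    intro x hx
    induction hx using Submodule.span_induction with
    | zero => simp
    | add x x' _ _ h h' => intro y; rw [mul_add, map_add, h, h', add_zero]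
    | smul r x _ h => intro y; rw [smul_eq_mul, ← mul_assoc]; exact h _
    | mem x hx =>
      intro y
      induction y using TensorProduct.induction_on with
      | zero => simp
      | add y y' hy hy' => rw [add_mul, map_add, hy, hy', add_zero]
      | tmul p r =>
        rcases hx with ⟨w, hw, rfl⟩ | rfl
        · have h1 : ((1 : K) ⊗ₜ[k] r) * w ∈ W := W.mul_mem_left _ hw
          rw [hmulι, map_smul, hΦι, hψW _ h1, hαW _ h1]
          funext i; simp
        · obtain ⟨l, h1, h2⟩ := hstab ((1 : K) ⊗ₜ[k] r)
          have e2 : ψ (((1 : K) ⊗ₜ[k] r) * a) = 0 ∧ α (((1 : K) ⊗ₜ[k] r) * a) = l := by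
            constructor
            · have := hψW _ h1; rwa [map_sub, map_smul, hψa, smul_zero, sub_zero] at this
            · have := hαW _ h1; rwa [map_sub, map_smul, hαa, smul_eq_mul, mul_one, sub_eq_zero] at this
          have e3 : ψ (((1 : K) ⊗ₜ[k] r) * (b - a)) = l • e ∧ α (((1 : K) ⊗ₜ[k] r) * (b - a)) = 0 := by
            have h3 := W.sub_mem h2 h1
            have h4 : ((1 : K) ⊗ₜ[k] r) * (b - a) - l • (b - a) ∈ W := by
              convert h3 using 1
              rw [mul_sub, smul_sub]; abel
            constructor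
            · have := hψW _ h4; rwa [map_sub, map_smul, sub_eq_zero] at this
            · have := hαW _ h4
              rwa [map_sub, map_smul, map_sub α b a, hαa, hαb, sub_self, smul_zero, sub_zero] at this
          simp only [v, mul_add, mul_smul_comm, hmulι, map_add, map_smul, hΦι, e2.1, e2.2, e3.1, e3.2]
          funext i
          simp only [Pi.add_apply, Pi.smul_apply, Pi.zero_apply, smul_eq_mul, map_zero, map_mul, zero_mul,
            mul_zero, sub_zero, zero_sub]
          ring
  refine ⟨J, ⟨fun i => Ideal.Quotient.mk J (incl k R K (s (Pi.single i 1))), ?_⟩, fun x hx => ?_⟩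
  · let G : (Fin n → Polynomial K) →ₗ[Polynomial K] Polynomial K ⊗[k] R :=
      Fintype.linearCombination (Polynomial K) fun i => incl k R K (s (Pi.single i 1))
    have hG : (fun c : Fin n → Polynomial K => ∑ i, algebraMap (Polynomial K) ((Polynomial K ⊗[k] R) ⧸ J) (c i) *
        Ideal.Quotient.mk J (incl k R K (s (Pi.single i 1)))) = fun c => Ideal.Quotient.mk J (G c) := by
      funext c
      simp only [G, Fintype.linearCombination_apply, map_sum]
      refine Finset.sum_congr rfl fun i _ => ?_
      rw [Algebra.smul_def, map_mul]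
      rfl
    rw [hG]
    have hΦG : ∀ c, Φ (G c) = c := by
      intro c
      simp only [G, Fintype.linearCombination_apply, map_sum, map_smul, hΦι, hψsid, hαs]
      funext i
      simp [Finset.sum_apply, Pi.single_apply, mul_ite]
    constructor
    · intro c c' h
      have h1 := hJ _ (Ideal.Quotient.eq.1 h) 1
      rwa [one_mul, map_sub, hΦG, hΦG, sub_eq_zero] at h1
    · intro y
      obtain ⟨y, rfl⟩ := Ideal.Quotient.mk_surjective y
      refine ⟨Φ y, (Ideal.Quotient.eq.2 ?_).symm⟩
      induction y using TensorProduct.induction_on with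
      | zero => simp
      | add y y' hy hy' =>
        rw [map_add, map_add, add_sub_add_comm]
        exact J.add_mem hy hy'
      | tmul p r =>
        let x : K ⊗[k] R := (1 : K) ⊗ₜ[k] r
        have hpr : p ⊗ₜ[k] r = p • incl k R K x := by
          simp [x, TensorProduct.smul_tmul']
        rw [hpr, map_smul, map_smul, ← smul_sub]
        refine Submodule.smul_of_tower_mem J p ?_
        have hGι : ∀ d : Fin n → K, G (fun i => Polynomial.C (d i)) = incl k R K (s d) := by
          intro d
          conv_rhs => rw [pi_eq_sum_univ' d, map_sum, map_sum]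
          simp only [G, Fintype.linearCombination_apply]
          refine Finset.sum_congr rfl fun i _ => ?_
          rw [map_smul, Algebra.smul_def, Algebra.smul_def, map_mul]
          refine congrArg (· * _) ?_
          simp [Algebra.TensorProduct.algebraMap_apply]
        have e4 : Φ (incl k R K x) = (fun i => Polynomial.C (ψ x i)) -
            (Polynomial.X * Polynomial.C (α x)) • fun i => Polynomial.C (e i) := by
          rw [hΦι]; funext i; simp only [Pi.sub_apply, Pi.smul_apply, smul_eq_mul, map_mul]; ring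
        have hw : x - s (ψ x) - α x • a ∈ W := by
          have := hsub (x - s (ψ x)) ((hψ0 _).1 (by rw [map_sub, hψsid, sub_self]))
          rwa [map_sub α, hαs, sub_zero] at this
        have hw' : s e - (b - a) ∈ W := by
          have := hsub (s e - (b - a)) ((hψ0 _).1 (by rw [map_sub, hψsid, sub_self]))
          rwa [map_sub α, hαs, map_sub, hαb, hαa, sub_self, sub_zero, zero_smul, sub_zero] at this
        have key : incl k R K x - G (Φ (incl k R K x)) = incl k R K (x - s (ψ x) - α x • a) +
            Polynomial.C (α x) • v + (Polynomial.X * Polynomial.C (α x)) • incl k R K (s e - (b - a)) := by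
          have hCa : incl k R K (α x • a) = Polynomial.C (α x) • incl k R K a := by
            rw [Algebra.smul_def, Algebra.smul_def, map_mul]
            refine congrArg (· * _) ?_
            simp [Algebra.TensorProduct.algebraMap_apply]
          rw [e4, map_sub, map_smul, hGι, hGι]
          simp only [v, map_sub, hCa, smul_add, smul_sub, smul_smul, mul_comm (Polynomial.C (α x)) Polynomial.X]
          abel
        rw [key]
        exact J.add_mem (J.add_mem (Ideal.subset_span (Or.inl ⟨_, hw, rfl⟩))
          (Submodule.smul_of_tower_mem J _ (Ideal.subset_span (Or.inr rfl))))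
          (Submodule.smul_of_tower_mem J _ (Ideal.subset_span (Or.inl ⟨_, hw', rfl⟩)))
  · have hev : ∀ c : K, Algebra.TensorProduct.map (evalAt k c) (AlgHom.id k R) v = a + c • (b - a) := by
      intro c
      simp only [v, map_add, evalAt_incl, Algebra.smul_def, map_mul]
      simp [Algebra.TensorProduct.algebraMap_apply]
    have h0 : J ≤ (I.comap (Algebra.TensorProduct.map (evalAt k (0 : K)) (AlgHom.id k R))) := by
      refine Ideal.span_le.2 ?_
      rintro _ (⟨w, hw, rfl⟩ | rfl)
      · simpa [evalAt_incl] using hWI hw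
      · show _ ∈ I
        rw [hev, zero_smul, add_zero]; exact ha
    have h1 : J ≤ (H.comap (Algebra.TensorProduct.map (evalAt k (1 : K)) (AlgHom.id k R))) := by
      refine Ideal.span_le.2 ?_
      rintro _ (⟨w, hw, rfl⟩ | rfl)
      · simpa [evalAt_incl] using hWH hw
      · show _ ∈ H
        rw [hev, one_smul, add_sub_cancel]; exact hb
    exact ⟨h0 hx, h1 hx⟩

end Groth.Agent.Punct
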